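import Cfsg.Agent.Helper17.M23Idx.Main

/-! Subgroups of index 253 of `M23`: the statement. -/

set_option autoImplicit false
set_option linter.all false

namespace Cfsg.Agent.Helper17.M23Idx

open Cfsg Cfsg.Agent.Helper27
open scoped Pointwise

/-- the inclusion of the point stabiliser into the permutations -/
def cHom (x : GolayPt) : ↥(MulAction.stabilizer Cfsg.M24 x) →* Equiv.Perm GolayPt :=
  (M24.subtype).comp (MulAction.stabilizer Cfsg.M24 x).subtype

theorem cHom_injective (x : GolayPt) : Function.Injective (cHom x) := by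
  intro a b h
  exact Subtype.ext (Subtype.ext h)

theorem cHom_mem (x : GolayPt) (γ : ↥(MulAction.stabilizer Cfsg.M24 x)) : cHom x γ ∈ M24 := γ.1.2

theorem cHom_fix (x : GolayPt) (γ : ↥(MulAction.stabilizer Cfsg.M24 x)) : cHom x γ x = x := γ.2

theorem cHom_smul (x : GolayPt) (γ : ↥(MulAction.stabilizer Cfsg.M24 x)) (s : Finset GolayPt) :
    (γ : M24) • s = cHom x γ • s := rfl

/-- lifting an element of `M24` fixing `x` -/
def liftS (x : GolayPt) (h : Equiv.Perm GolayPt) (hM : h ∈ M24) (hx : h x = x) :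
    ↥(MulAction.stabilizer Cfsg.M24 x) := ⟨⟨h, hM⟩, hx⟩

theorem cHom_liftS (x : GolayPt) (h : Equiv.Perm GolayPt) (hM : h ∈ M24) (hx : h x = x) :
    cHom x (liftS x h hM hx) = h := rfl

/-- every point lies in an octad -/
theorem exists_octad_mem (x : GolayPt) : ∃ o ∈ octads, x ∈ o := by
  haveI := M24_isPretransitive
  obtain ⟨g, hg⟩ := MulAction.exists_smul_eq M24 (pt 0) x
  refine ⟨(g : Equiv.Perm GolayPt) • maskSet oct5, smul_octad_mem g.2 (maskSet_mem_octads isOct_oct5), ?_⟩
  have h0 : pt 0 ∈ maskSet oct5 := by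
    rw [mem_maskSet]
    decide
  have : (g : Equiv.Perm GolayPt) (pt 0) = x := hg
  rw [← this]
  exact (mem_smul_finset_perm _ _ _).mpr h0

theorem main (x : GolayPt) (H : Subgroup ↥(MulAction.stabilizer Cfsg.M24 x)) (hH : H.index = 253) :
    (∃ s : Finset GolayPt, s.card = 2 ∧ x ∉ s ∧
      H = (MulAction.stabilizer Cfsg.M24 s).subgroupOf (MulAction.stabilizer Cfsg.M24 x)) ∨
    ∃ o ∈ Cfsg.octads, x ∈ o ∧
      H = (MulAction.stabilizer Cfsg.M24 o).subgroupOf (MulAction.stabilizer Cfsg.M24 x) := by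
  classical
  haveI : Finite ↥(MulAction.stabilizer Cfsg.M24 x) :=
    Nat.finite_of_card_ne_zero (by rw [card_stabilizer_M24]; norm_num)
  -- the order of H
  have hcardH : Nat.card H = 40320 := by
    have h1 := Subgroup.card_mul_index H
    rw [hH, card_stabilizer_M24] at h1
    omega
  set H' : Subgroup (Equiv.Perm GolayPt) := H.map (cHom x) with hH'
  have hcard' : Nat.card H' = 40320 := by
    rw [hH', Subgroup.card_map_of_injective (cHom_injective x), hcardH]
  have hM : H' ≤ M24 := by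
    rintro _ ⟨γ, -, rfl⟩
    exact cHom_mem x γ
  have hx : ∀ h ∈ H', h x = x := by
    rintro _ ⟨γ, -, rfl⟩
    exact cHom_fix x γ
  -- an octad through x whose pointwise stabiliser lies in H'
  obtain ⟨o1, ho1, hxo1⟩ := exists_octad_mem x
  haveI : Fact (Nat.Prime 2) := ⟨by norm_num⟩
  have hQ1 : IsPGroup 2 (fixG o1) := IsPGroup.of_card (n := 4) (by rw [card_fixG_octad ho1]; norm_num)
  have hQ : IsPGroup 2 ((fixG o1).comap (cHom x)) := hQ1.comap_of_injective (cHom x) (cHom_injective x)
  obtain ⟨g, hg⟩ := exists_conj_mem 2 H ((fixG o1).comap (cHom x)) hQ (by rw [hH]; norm_num)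
  set k : Equiv.Perm GolayPt := (cHom x g)⁻¹ with hk
  have hkM : k ∈ M24 := M24.inv_mem (cHom_mem x g)
  have hkx : k x = x := by
    rw [hk, Equiv.Perm.inv_eq_iff_eq, cHom_fix]
  have ho : k • o1 ∈ octads := smul_octad_mem hkM ho1
  have hxo : x ∈ k • o1 := by
    have := (mem_smul_finset_perm k o1 x).mpr hxo1
    rwa [hkx] at this
  have hQH : fixG (k • o1) ≤ H' := by
    intro h' hh'
    rw [mem_fixG_smul hkM] at hh'
    set h := k⁻¹ * h' * k with hh
    have hhM : h ∈ M24 := ((mem_fixG o1 h).mp hh').1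
    have hhx : h x = x := ((mem_fixG o1 h).mp hh').2 x hxo1
    have hmemQ : liftS x h hhM hhx ∈ (fixG o1).comap (cHom x) := by
      rw [Subgroup.mem_comap, cHom_liftS]
      exact hh'
    have h2 := hg _ hmemQ
    have h3 : cHom x (g⁻¹ * liftS x h hhM hhx * g) ∈ H' := Subgroup.mem_map_of_mem _ h2
    rw [map_mul, map_mul, map_inv, cHom_liftS, ← hk] at h3
    have h4 : k * h * (cHom x) g = h' := by
      have : (cHom x) g = k⁻¹ := by rw [hk, inv_inv]
      rw [this, hh]
      group
    rw [h4] at h3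
    exact h3
  -- passing from H' back to H
  have hback : ∀ (s : Finset GolayPt), (∀ h ∈ H', ∀ q ∈ s, h q ∈ s) →
      Nat.card (fixH (M24 ⊓ MulAction.stabilizer (Equiv.Perm GolayPt) s) {x}) ≤ 40320 →
      H = (MulAction.stabilizer Cfsg.M24 s).subgroupOf (MulAction.stabilizer Cfsg.M24 x) := by
    intro s hs hle
    set K := (MulAction.stabilizer Cfsg.M24 s).subgroupOf (MulAction.stabilizer Cfsg.M24 x) with hK
    have hHK : H ≤ K := by
      intro γ hγ
      rw [hK, Subgroup.mem_subgroupOf, MulAction.mem_stabilizer_iff, cHom_smul]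
      apply smul_eq_of_maps
      exact hs _ (Subgroup.mem_map_of_mem _ hγ)
    have hKmap : K.map (cHom x) ≤ fixH (M24 ⊓ MulAction.stabilizer (Equiv.Perm GolayPt) s) {x} := by
      rintro _ ⟨γ, hγ, rfl⟩
      rw [mem_fixH]
      refine ⟨Subgroup.mem_inf.mpr ⟨cHom_mem x γ, ?_⟩, ?_⟩
      · rw [MulAction.mem_stabilizer_iff, ← cHom_smul]
        have : γ ∈ K := hγ
        rw [hK, Subgroup.mem_subgroupOf, MulAction.mem_stabilizer_iff] at this
        exact this
      · intro q hq
        rw [Finset.mem_singleton] at hq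
        rw [hq]
        exact cHom_fix x γ
    have hKcard : Nat.card K ≤ 40320 := by
      rw [← Subgroup.card_map_of_injective (cHom_injective x)]
      exact (Subgroup.card_le_of_le hKmap).trans hle
    exact Subgroup.eq_of_le_of_card_ge hHK (by rw [hcardH]; exact hKcard)
  rcases key hM hx hcard' ho hxo hQH with ⟨s, hs2, hxs, hsinv⟩ | hoinv
  · left
    exact ⟨s, hs2, hxs, hback s hsinv (card_pair_le hs2 hxs)⟩
  · right
    exact ⟨k • o1, ho, hxo, hback _ hoinv (card_octad_le ho hxo)⟩

end Cfsg.Agent.Helper17.M23Idx
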