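import Cfsg.Agent.Helper27.M24TvMain
import Cfsg.Agent.Helper27.M24SixSets

/-! Tools on `M24` for the subgroups of index 253 of `M23`. -/

set_option autoImplicit false
set_option linter.all false

namespace Cfsg.Agent.Helper17.M23Idx

open Cfsg Cfsg.Agent.Helper27
open scoped Pointwise

/-- any five points can be moved to the standard five points -/
theorem exists_smul_E0 (t : Finset GolayPt) (htc : t.card = 5) : ∃ k ∈ M24, k • t = E0 := by
  obtain ⟨x, hx, hxt⟩ := exists_five_in t (by rw [htc])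
  have hy : Function.Injective ![pt 0, pt 1, pt 2, pt 3, pt 4] := by decide
  obtain ⟨k, hk, hmap⟩ := exists_M24_map_five x ![pt 0, pt 1, pt 2, pt 3, pt 4] hx hy
  have himg : Finset.univ.image x = t := by
    apply Finset.eq_of_subset_of_card_le
    · intro p hp
      obtain ⟨i, -, rfl⟩ := Finset.mem_image.mp hp
      exact hxt i
    · rw [Finset.card_image_of_injective _ hx, htc]; simp
  refine ⟨k, hk, ?_⟩
  apply Finset.eq_of_subset_of_card_le
  · intro p hp
    rw [mem_smul_perm_iff, ← himg] at hp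
    obtain ⟨i, -, hi⟩ := Finset.mem_image.mp hp
    have : p = k (x i) := by rw [hi, perm_apply_inv_self]
    rw [this, hmap i]
    fin_cases i <;> simp [ptsOf]
  · rw [card_E0, Finset.card_smul_finset, htc]

/-- the pointwise stabiliser in `M24` of any five points has order 48 -/
theorem card_fixG_five (t : Finset GolayPt) (htc : t.card = 5) : Nat.card (fixG t) = 48 := by
  obtain ⟨k, hk, hkt⟩ := exists_smul_E0 t htc
  rw [← card_fixG_smul hk t, hkt, card_fixG_E0]

/-- the pointwise stabiliser of an octad is transitive on the 16 points outside -/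
theorem fixG_octad_trans {o : Finset GolayPt} (ho : o ∈ octads) {a b : GolayPt} (ha : a ∉ o) (hb : b ∉ o) :
    ∃ h ∈ fixG o, h a = b := by
  obtain ⟨g, hg, rfl⟩ := exists_smul_oct5 ho
  have ha' : g⁻¹ a ∉ maskSet oct5 := by
    intro h
    apply ha
    have := (mem_smul_finset_perm g (maskSet oct5) (g⁻¹ a)).mpr h
    simpa using this
  have hb' : g⁻¹ b ∉ maskSet oct5 := by
    intro h
    apply hb
    have := (mem_smul_finset_perm g (maskSet oct5) (g⁻¹ b)).mpr h
    simpa using this
  obtain ⟨v, hv⟩ := exists_fQ ha'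
  obtain ⟨w, hw⟩ := exists_fQ hb'
  refine ⟨g * fT (w - v) * g⁻¹, ?_, ?_⟩
  · rw [mem_fixG_smul hg]
    have : g⁻¹ * (g * fT (w - v) * g⁻¹) * g = fT (w - v) := by group
    rw [this]
    exact fT_mem_fixG _
  · rw [Equiv.Perm.mul_apply, Equiv.Perm.mul_apply, hv, fT_fQ, sub_add_cancel, ← hw]
    simp

/-- a `p`-subgroup can be conjugated into any subgroup of index prime to `p` -/
theorem exists_conj_mem {Γ : Type*} [Group Γ] (p : ℕ) [Fact p.Prime] (H Q : Subgroup Γ)
    (hQ : IsPGroup p Q) (hidx : ¬ p ∣ H.index) : ∃ g : Γ, ∀ q ∈ Q, g⁻¹ * q * g ∈ H := by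
  have hne : (MulAction.fixedPoints Q (Γ ⧸ H)).Nonempty :=
    hQ.nonempty_fixed_point_of_prime_not_dvd_card (Γ ⧸ H) hidx
  obtain ⟨y, hy⟩ := hne
  induction y using QuotientGroup.induction_on with
  | H g =>
    refine ⟨g, ?_⟩
    intro q hq
    have h1 : (⟨q⁻¹, Q.inv_mem hq⟩ : Q) • (g : Γ ⧸ H) = (g : Γ ⧸ H) := hy ⟨q⁻¹, Q.inv_mem hq⟩
    have h2 : ((q⁻¹ * g : Γ) : Γ ⧸ H) = (g : Γ ⧸ H) := h1
    rw [QuotientGroup.eq] at h2
    have : (q⁻¹ * g)⁻¹ * g = g⁻¹ * q * g := by group
    rw [this] at h2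
    exact h2

/-- an element of order 7 of `M24` fixes exactly three points -/
theorem seven_fixed {g : Equiv.Perm GolayPt} (hg : g ∈ M24) (h7 : orderOf g = 7) :
    (g.supportᶜ).card = 3 := by
  haveI : Fact (Nat.Prime 7) := ⟨by norm_num⟩
  have hpow : g ^ 7 ^ 1 = 1 := by rw [pow_one, ← h7, pow_orderOf_eq_one]
  have hmod := Equiv.Perm.card_compl_support_modEq (p := 7) (n := 1) hpow
  have hc : Fintype.card GolayPt = 24 := by rw [← Nat.card_eq_fintype_card, card_GolayPt]
  rw [hc] at hmod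
  have hle : (g.supportᶜ).card ≤ 4 := by
    by_contra hlt
    rw [not_le] at hlt
    obtain ⟨t, ht, htc⟩ := Finset.exists_subset_card_eq (s := g.supportᶜ) (n := 5) (by omega)
    have hgt : g ∈ fixG t := by
      rw [mem_fixG]
      refine ⟨hg, ?_⟩
      intro q hq
      have := ht hq
      rw [Finset.mem_compl, Equiv.Perm.mem_support, not_not] at this
      exact this
    have hdvd : orderOf (⟨g, hgt⟩ : fixG t) ∣ Nat.card (fixG t) := orderOf_dvd_natCard _
    rw [card_fixG_five t htc] at hdvd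
    have ho : orderOf (⟨g, hgt⟩ : fixG t) = 7 := by
      rw [← h7]
      exact (Subgroup.orderOf_mk g hgt)
    rw [ho] at hdvd
    norm_num at hdvd
  have : (g.supportᶜ).card % 7 = 24 % 7 := hmod
  omega

/-- orbit–stabiliser bound along an invariant set -/
theorem card_fixH_le (K : Subgroup (Equiv.Perm GolayPt)) (F S : Finset GolayPt) (a : GolayPt) (ha : a ∈ S)
    (hinv : ∀ g ∈ fixH K F, ∀ q ∈ S, g q ∈ S) :
    Nat.card (fixH K F) ≤ S.card * Nat.card (fixH K (insert a F)) := by
  rw [card_fixH_insert K F a]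
  apply Nat.mul_le_mul_right
  calc (orbitSet (fixH K F) a).ncard ≤ (S : Set GolayPt).ncard := by
        apply Set.ncard_le_ncard _ (Finset.finite_toSet S)
        rintro b ⟨g, hg, rfl⟩
        exact hinv g hg a ha
    _ = S.card := Set.ncard_coe_finset S

/-- invariance is inherited by the next stabiliser and the set with the point removed -/
theorem inv_erase (K : Subgroup (Equiv.Perm GolayPt)) (F S : Finset GolayPt) (a : GolayPt)
    (hinv : ∀ g ∈ fixH K F, ∀ q ∈ S, g q ∈ S) :
    ∀ g ∈ fixH K (insert a F), ∀ q ∈ S.erase a, g q ∈ S.erase a := by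
  intro g hg q hq
  rw [mem_fixH] at hg
  have hgF : g ∈ fixH K F := by
    rw [mem_fixH]
    exact ⟨hg.1, fun r hr => hg.2 r (Finset.mem_insert_of_mem hr)⟩
  have hga : g a = a := hg.2 a (Finset.mem_insert_self a F)
  rw [Finset.mem_erase] at hq ⊢
  refine ⟨?_, hinv g hgF q hq.2⟩
  intro h
  apply hq.1
  apply g.injective
  rw [h, hga]

end Cfsg.Agent.Helper17.M23Idx
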