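import Cfsg.Agent.Helper17.M23Idx.Basic

/-! The key step: a subgroup of order 40320 of `M23` containing the pointwise stabiliser of an octad. -/

set_option autoImplicit false
set_option linter.all false

namespace Cfsg.Agent.Helper17.M23Idx

open Cfsg Cfsg.Agent.Helper27
open scoped Pointwise

/-- a permutation of order 7 preserving a set of fewer than 7 points fixes it pointwise -/
theorem fix_of_small {g : Equiv.Perm GolayPt} (h7 : g ^ 7 = 1) (R : Finset GolayPt) (hR : R.card < 7)
    (hinv : ∀ q, g q ∈ R ↔ q ∈ R) : ∀ q ∈ R, g q = q := by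
  set σ : Equiv.Perm {q // q ∈ R} := g.subtypePerm hinv with hσ
  have hσ7 : σ ^ 7 = 1 := by
    rw [hσ, Equiv.Perm.subtypePerm_pow]
    ext q
    simp [h7]
  have h1 : orderOf σ ∣ 7 := orderOf_dvd_of_pow_eq_one hσ7
  have h2 : orderOf σ ∣ Fintype.card (Equiv.Perm {q // q ∈ R}) := orderOf_dvd_card
  rw [Fintype.card_perm, Fintype.card_coe] at h2
  have hcop : Nat.Coprime 7 (R.card).factorial := by
    rw [Nat.Prime.coprime_iff_not_dvd (by norm_num)]
    intro hd
    rw [Nat.Prime.dvd_factorial (by norm_num)] at hd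
    omega
  have h3 : orderOf σ ∣ 1 := by
    have := Nat.dvd_gcd h1 h2
    rwa [hcop] at this
  have hσ1 : σ = 1 := by
    rw [← orderOf_eq_one_iff]
    exact Nat.dvd_one.mp h3
  intro q hq
  have : σ ⟨q, hq⟩ = ⟨q, hq⟩ := by rw [hσ1]; rfl
  have h4 := congrArg Subtype.val this
  simpa [hσ] using h4

theorem key {x : GolayPt} {H' : Subgroup (Equiv.Perm GolayPt)} (hM : H' ≤ M24) (hx : ∀ h ∈ H', h x = x)
    (hcard : Nat.card H' = 40320) {o : Finset GolayPt} (ho : o ∈ octads) (hxo : x ∈ o) (hQ : fixG o ≤ H') :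
    (∃ s : Finset GolayPt, s.card = 2 ∧ x ∉ s ∧ ∀ h ∈ H', ∀ q ∈ s, h q ∈ s) ∨
      (∀ h ∈ H', ∀ q ∈ o, h q ∈ o) := by
  classical
  have hocard : o.card = 8 := ho.2
  -- a point outside the octad
  have hex : ∃ y, y ∉ o := by
    by_contra hne
    push Not at hne
    have : o = Finset.univ := Finset.eq_univ_iff_forall.mpr hne
    rw [this, Finset.card_univ, ← Nat.card_eq_fintype_card, card_GolayPt] at hocard
    omega
  obtain ⟨y, hy⟩ := hex
  -- the orbit of y
  set B : Finset GolayPt := Finset.univ.filter (fun b => b ∈ orbitSet H' y) with hB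
  have hBmem : ∀ b, b ∈ B ↔ ∃ g ∈ H', g y = b := by
    intro b
    rw [hB, Finset.mem_filter]
    simp [orbitSet]
  have hBcard : B.card = (orbitSet H' y).ncard := by
    rw [← Set.ncard_coe_finset B]
    congr 1
    ext b
    rw [Finset.mem_coe, hBmem]
    rfl
  have hdvd : B.card ∣ 40320 := by
    have h1 := card_fixH_insert H' ∅ y
    rw [fixH_empty, hcard] at h1
    rw [hBcard]
    exact Dvd.intro _ h1.symm
  -- the complement of the octad lies in B
  have hcompl : ∀ b, b ∉ o → b ∈ B := by
    intro b hb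
    obtain ⟨h, hh, hhb⟩ := fixG_octad_trans ho hy hb
    exact (hBmem b).mpr ⟨h, hQ hh, hhb⟩
  have hxB : x ∉ B := by
    intro h
    obtain ⟨g, hg, hgy⟩ := (hBmem x).mp h
    have : g y = g x := by rw [hgy, hx g hg]
    have := g.injective this
    rw [this] at hy
    exact hy hxo
  have hBinv : ∀ h ∈ H', ∀ b, h b ∈ B ↔ b ∈ B := by
    intro h hh b
    rw [hBmem, hBmem]
    constructor
    · rintro ⟨g, hg, hgy⟩
      refine ⟨h⁻¹ * g, H'.mul_mem (H'.inv_mem hh) hg, ?_⟩
      rw [Equiv.Perm.mul_apply, hgy]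
      simp
    · rintro ⟨g, hg, hgy⟩
      exact ⟨h * g, H'.mul_mem hh hg, by rw [Equiv.Perm.mul_apply, hgy]⟩
  -- the rest
  set R : Finset GolayPt := (Finset.univ.erase x) \ B with hR
  have hRmem : ∀ q, q ∈ R ↔ q ≠ x ∧ q ∉ B := by
    intro q
    rw [hR, Finset.mem_sdiff, Finset.mem_erase]
    simp
  have hRo : R ⊆ o.erase x := by
    intro q hq
    rw [hRmem] at hq
    rw [Finset.mem_erase]
    refine ⟨hq.1, ?_⟩
    by_contra hqo
    exact hq.2 (hcompl q hqo)
  have hRinv : ∀ h ∈ H', ∀ q, h q ∈ R ↔ q ∈ R := by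
    intro h hh q
    rw [hRmem, hRmem, hBinv h hh]
    constructor
    · rintro ⟨h1, h2⟩
      refine ⟨?_, h2⟩
      intro hq
      apply h1
      rw [hq, hx h hh]
    · rintro ⟨h1, h2⟩
      refine ⟨?_, h2⟩
      intro hq
      apply h1
      apply h.injective
      rw [hq, hx h hh]
  have hBsub : B ⊆ Finset.univ.erase x := by
    intro b hb
    rw [Finset.mem_erase]
    exact ⟨fun h => hxB (h ▸ hb), Finset.mem_univ b⟩
  have hsum : R.card + B.card = 23 := by
    rw [hR, Finset.card_sdiff_add_card_eq_card hBsub, Finset.card_erase_of_mem (Finset.mem_univ x),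
      Finset.card_univ, ← Nat.card_eq_fintype_card, card_GolayPt]
  have hR7 : R.card ≤ 7 := by
    calc R.card ≤ (o.erase x).card := Finset.card_le_card hRo
      _ = 7 := by rw [Finset.card_erase_of_mem hxo, hocard]
  -- an element of order 7
  haveI : Fact (Nat.Prime 7) := ⟨by norm_num⟩
  obtain ⟨g, hg⟩ := exists_prime_orderOf_dvd_card' (G := H') 7 (by rw [hcard]; norm_num)
  have hg7 : orderOf (g : Equiv.Perm GolayPt) = 7 := by rw [Subgroup.orderOf_coe, hg]
  have hgpow : (g : Equiv.Perm GolayPt) ^ 7 = 1 := by rw [← hg7, pow_orderOf_eq_one]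
  have hfix := seven_fixed (hM g.2) hg7
  have hsmall : R.card < 7 → R.card ≤ 2 := by
    intro hlt
    have hfixR := fix_of_small hgpow R hlt (hRinv g.1 g.2)
    have hsub : insert x R ⊆ (g : Equiv.Perm GolayPt).supportᶜ := by
      intro q hq
      rw [Finset.mem_compl, Equiv.Perm.mem_support, not_not]
      rw [Finset.mem_insert] at hq
      rcases hq with rfl | hq
      · exact hx g.1 g.2
      · exact hfixR q hq
    have hxR : x ∉ R := fun h => ((hRmem x).mp h).1 rfl
    have := Finset.card_le_card hsub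
    rw [Finset.card_insert_of_notMem hxR, hfix] at this
    omega
  by_cases h7 : R.card = 7
  · right
    have hReq : R = o.erase x := by
      apply Finset.eq_of_subset_of_card_le hRo
      rw [Finset.card_erase_of_mem hxo, hocard, h7]
    intro h hh q hq
    by_cases hqx : q = x
    · rw [hqx, hx h hh]; exact hxo
    · have hqR : q ∈ R := by rw [hReq, Finset.mem_erase]; exact ⟨hqx, hq⟩
      have := (hRinv h hh q).mpr hqR
      rw [hReq] at this
      exact Finset.mem_of_mem_erase this
  · left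
    have hle2 : R.card ≤ 2 := hsmall (by omega)
    have hR2 : R.card = 2 := by
      have hBc : B.card = 23 - R.card := by omega
      rw [hBc] at hdvd
      interval_cases hrc : R.card
      · norm_num at hdvd
      · norm_num at hdvd
      · rfl
    refine ⟨R, hR2, fun h => ((hRmem x).mp h).1 rfl, ?_⟩
    intro h hh q hq
    exact (hRinv h hh q).mpr hq

end Cfsg.Agent.Helper17.M23Idx
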