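import Cfsg.Agent.Helper17.M23Idx.Key

/-! Subgroups of index 253 of `M23`: assembly. -/

set_option autoImplicit false
set_option linter.all false

namespace Cfsg.Agent.Helper17.M23Idx

open Cfsg Cfsg.Agent.Helper27
open scoped Pointwise

/-- iterated orbit–stabiliser bound inside an invariant set -/
theorem chain_bound (K : Subgroup (Equiv.Perm GolayPt)) (n : ℕ) :
    ∀ (F S : Finset GolayPt), (∀ g ∈ fixH K F, ∀ q ∈ S, g q ∈ S) → n ≤ S.card →
      ∃ T : Finset GolayPt, T ⊆ S ∧ T.card = n ∧
        Nat.card (fixH K F) ≤ (S.card).descFactorial n * Nat.card (fixH K (T ∪ F)) := by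
  induction n with
  | zero =>
    intro F S _ _
    refine ⟨∅, Finset.empty_subset S, rfl, ?_⟩
    rw [Nat.descFactorial_zero, one_mul, Finset.empty_union]
  | succ n ih =>
    intro F S hinv hn
    have hSne : S.Nonempty := by
      rw [← Finset.card_pos]; omega
    obtain ⟨a, ha⟩ := hSne
    have h1 := card_fixH_le K F S a ha hinv
    have hcard' : (S.erase a).card = S.card - 1 := Finset.card_erase_of_mem ha
    obtain ⟨T', hT'S, hT'c, hT'b⟩ := ih (insert a F) (S.erase a) (inv_erase K F S a hinv) (by omega)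
    have haT' : a ∉ T' := fun h => (Finset.notMem_erase a S) (hT'S h)
    refine ⟨insert a T', ?_, ?_, ?_⟩
    · intro q hq
      rw [Finset.mem_insert] at hq
      rcases hq with rfl | hq
      · exact ha
      · exact Finset.mem_of_mem_erase (hT'S hq)
    · rw [Finset.card_insert_of_notMem haT', hT'c]
    · have hunion : insert a T' ∪ F = T' ∪ insert a F := by
        ext q
        simp only [Finset.mem_union, Finset.mem_insert]
        tauto
      rw [hunion]
      obtain ⟨m, hm⟩ : ∃ m, S.card = m + 1 := ⟨S.card - 1, by omega⟩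
      have hT'b' : Nat.card (fixH K (insert a F)) ≤
          m.descFactorial n * Nat.card (fixH K (T' ∪ insert a F)) := by
        rw [hcard', hm, Nat.add_sub_cancel] at hT'b
        exact hT'b
      rw [hm] at h1 ⊢
      rw [Nat.succ_descFactorial_succ]
      calc Nat.card (fixH K F) ≤ (m + 1) * Nat.card (fixH K (insert a F)) := h1
        _ ≤ (m + 1) * (m.descFactorial n * Nat.card (fixH K (T' ∪ insert a F))) :=
            Nat.mul_le_mul_left _ hT'b'
        _ = (m + 1) * m.descFactorial n * Nat.card (fixH K (T' ∪ insert a F)) := by ring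

/-- the pointwise stabiliser in `M24` of three points has order at most 20160 -/
theorem card_fixG_three_le (F : Finset GolayPt) (hF : F.card = 3) : Nat.card (fixG F) ≤ 20160 := by
  have hinv : ∀ g ∈ fixH M24 F, ∀ q ∈ Finset.univ \ F, g q ∈ Finset.univ \ F := by
    intro g hg q hq
    rw [Finset.mem_sdiff] at hq ⊢
    exact ⟨Finset.mem_univ _, apply_not_mem_of_fixH hg hq.2⟩
  have hc : (Finset.univ \ F).card = 21 := by
    rw [Finset.card_sdiff_of_subset (Finset.subset_univ F), Finset.card_univ, ← Nat.card_eq_fintype_card,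
      card_GolayPt, hF]
  obtain ⟨T, hTS, hTc, hTb⟩ := chain_bound M24 2 F (Finset.univ \ F) hinv (by rw [hc]; norm_num)
  have hdisj : Disjoint T F := by
    rw [Finset.disjoint_left]
    intro q hq hqF
    have := hTS hq
    rw [Finset.mem_sdiff] at this
    exact this.2 hqF
  have h5 : (T ∪ F).card = 5 := by rw [Finset.card_union_of_disjoint hdisj, hTc, hF]
  have h48 : Nat.card (fixH M24 (T ∪ F)) = 48 := card_fixG_five _ h5
  rw [hc, h48] at hTb
  exact hTb

/-- the stabiliser in `M24` of a point `x` and a pair `s` not containing it has order at most 40320 -/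
theorem card_pair_le {x : GolayPt} {s : Finset GolayPt} (hs : s.card = 2) (hxs : x ∉ s) :
    Nat.card (fixH (M24 ⊓ MulAction.stabilizer (Equiv.Perm GolayPt) s) {x}) ≤ 40320 := by
  set K0 := M24 ⊓ MulAction.stabilizer (Equiv.Perm GolayPt) s with hK0
  have hinv : ∀ g ∈ fixH K0 {x}, ∀ q ∈ s, g q ∈ s := by
    intro g hg q hq
    have hgK : g ∈ K0 := ((mem_fixH K0 _ g).mp hg).1
    have hgs : g • s = s := (Subgroup.mem_inf.mp hgK).2
    rw [← hgs]
    exact (mem_smul_finset_perm g s q).mpr hq
  obtain ⟨T, hTS, hTc, hTb⟩ := chain_bound K0 2 {x} s hinv (by rw [hs])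
  have hTs : T = s := Finset.eq_of_subset_of_card_le hTS (by rw [hs, hTc])
  have hle : fixH K0 (T ∪ {x}) ≤ fixG (T ∪ {x}) := by
    intro g hg
    rw [mem_fixH] at hg
    rw [mem_fixG]
    exact ⟨(Subgroup.mem_inf.mp hg.1).1, hg.2⟩
  have h3 : (T ∪ {x}).card = 3 := by
    rw [hTs, Finset.card_union_of_disjoint (by simpa using hxs), hs]; rfl
  have := card_fixG_three_le _ h3
  have h4 := Subgroup.card_le_of_le hle
  rw [hs] at hTb
  calc Nat.card (fixH K0 {x}) ≤ Nat.descFactorial 2 2 * Nat.card (fixH K0 (T ∪ {x})) := hTb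
    _ ≤ 2 * 20160 := Nat.mul_le_mul (by decide) (h4.trans this)
    _ = 40320 := by norm_num

/-- the stabiliser in `M24` of an octad `o` and a point `x` of it has order at most 40320 -/
theorem card_octad_le {x : GolayPt} {o : Finset GolayPt} (ho : o ∈ octads) (hxo : x ∈ o) :
    Nat.card (fixH (M24 ⊓ MulAction.stabilizer (Equiv.Perm GolayPt) o) {x}) ≤ 40320 := by
  set K0 := M24 ⊓ MulAction.stabilizer (Equiv.Perm GolayPt) o with hK0
  have hinv : ∀ g ∈ fixH K0 {x}, ∀ q ∈ o.erase x, g q ∈ o.erase x := by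
    intro g hg q hq
    have hg' := (mem_fixH K0 _ g).mp hg
    have hgs : g • o = o := (Subgroup.mem_inf.mp hg'.1).2
    have hgx : g x = x := hg'.2 x (Finset.mem_singleton_self x)
    rw [Finset.mem_erase] at hq ⊢
    refine ⟨?_, ?_⟩
    · intro h
      apply hq.1
      apply g.injective
      rw [h, hgx]
    · rw [← hgs]
      exact (mem_smul_finset_perm g o q).mpr hq.2
  have hc : (o.erase x).card = 7 := by rw [Finset.card_erase_of_mem hxo, ho.2]
  obtain ⟨T, hTS, hTc, hTb⟩ := chain_bound K0 4 {x} (o.erase x) hinv (by rw [hc]; norm_num)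
  have hle : fixH K0 (T ∪ {x}) ≤ fixG (T ∪ {x}) := by
    intro g hg
    rw [mem_fixH] at hg
    rw [mem_fixG]
    exact ⟨(Subgroup.mem_inf.mp hg.1).1, hg.2⟩
  have hxT : x ∉ T := fun h => (Finset.notMem_erase x o) (hTS h)
  have h5 : (T ∪ {x}).card = 5 := by
    rw [Finset.card_union_of_disjoint (by simpa using hxT), hTc]; rfl
  have h48 : Nat.card (fixG (T ∪ {x})) = 48 := card_fixG_five _ h5
  have h4 := Subgroup.card_le_of_le hle
  rw [h48] at h4
  rw [hc] at hTb
  calc Nat.card (fixH K0 {x}) ≤ Nat.descFactorial 7 4 * Nat.card (fixH K0 (T ∪ {x})) := hTb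
    _ ≤ 840 * 48 := Nat.mul_le_mul (by decide) h4
    _ = 40320 := by norm_num

end Cfsg.Agent.Helper17.M23Idx
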